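import Groth.Agent.VarDim.Intersection
import Groth.Agent.VarDim.Local
import Groth.Agent.VarDim.Top
import Groth.Agent.SmoothCrit.Sch
import Mathlib.RingTheory.Nakayama
import Mathlib.RingTheory.Smooth.StandardSmoothCotangent
import Mathlib.RingTheory.Ideal.KrullsHeightTheorem

/-!
# The dimension of intersections in smooth varieties
-/

noncomputable section

set_option autoImplicit false
set_option linter.style.haveILetI false
set_option linter.unusedSectionVars false
set_option backward.isDefEq.respectTransparency false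
set_option maxHeartbeats 1000000

universe u

open Order TensorProduct AlgebraicGeometry CategoryTheory TopologicalSpace

namespace Groth.Agent.VarDim

section Alg

variable (k : Type u) [Field k]

/-- The diagonal of a standard smooth algebra is cut out by `n` elements near itself. -/
theorem exists_diag_equations (n : ℕ) (A : Type u) [CommRing A] [Nontrivial A] [Algebra k A]
    [Algebra.IsStandardSmoothOfRelativeDimension n k A] :
    ∃ (G : Finset (A ⊗[k] A)), G.card ≤ n ∧ (∀ x ∈ G, x ∈ KaehlerDifferential.ideal k A) ∧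
      ∃ e ∈ KaehlerDifferential.ideal k A, ∀ y ∈ KaehlerDifferential.ideal k A,
        (1 - e) * y ∈ Ideal.span (G : Set (A ⊗[k] A)) := by
  classical
  haveI : Algebra.IsStandardSmooth k A := Algebra.IsStandardSmoothOfRelativeDimension.isStandardSmooth n
  let b := Module.Free.chooseBasis A Ω[A⁄k]
  haveI : Module.Finite A Ω[A⁄k] := inferInstance
  have hcard : Fintype.card (Module.Free.ChooseBasisIndex A Ω[A⁄k]) = n := by
    have h := Algebra.IsStandardSmoothOfRelativeDimension.rank_kaehlerDifferential (R := k) (S := A) n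
    rw [← Module.finrank_eq_card_basis b, Module.finrank, h, Cardinal.toNat_natCast]
  choose x hx using fun i => KaehlerDifferential.fromIdeal_surjective k A (b i)
  let I := KaehlerDifferential.ideal k A
  let G : Finset (A ⊗[k] A) := Finset.univ.image fun i => (x i : A ⊗[k] A)
  have hG : ∀ z ∈ G, z ∈ I := fun z hz => by
    obtain ⟨i, -, rfl⟩ := Finset.mem_image.1 hz
    exact (x i).2
  let J : Ideal (A ⊗[k] A) := Ideal.span (G : Set (A ⊗[k] A))
  have hI : I ≤ J ⊔ I ^ 2 := fun y hy => by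
    let c := b.repr (KaehlerDifferential.fromIdeal k A ⟨y, hy⟩)
    let z : I := ∑ i, (algebraMap A (A ⊗[k] A) (c i)) • x i
    have hz : (z : A ⊗[k] A) ∈ J := by
      simp only [z, Submodule.coe_sum, SetLike.val_smul, smul_eq_mul]
      exact J.sum_mem fun i _ => J.mul_mem_left _ (Ideal.subset_span (Finset.mem_image.2 ⟨i, Finset.mem_univ i, rfl⟩))
    have h : KaehlerDifferential.fromIdeal k A ⟨y, hy⟩ = KaehlerDifferential.fromIdeal k A z := by
      rw [map_sum]
      refine (b.sum_repr _).symm.trans (Finset.sum_congr rfl fun i _ => ?_)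
      rw [map_smul, hx, algebraMap_smul]
    have h2 : (y - (z : A ⊗[k] A)) ∈ I ^ 2 := (Ideal.toCotangent_eq (I := I)).1 h
    rw [show y = (z : A ⊗[k] A) + (y - z) by ring]
    exact Submodule.add_mem_sup hz h2
  let π := Ideal.Quotient.mk J
  have hfg : (I.map π).FG := (KaehlerDifferential.ideal_fg k A).map π
  have hsq : I.map π ≤ I.map π • I.map π := by
    refine (Ideal.map_mono hI).trans ?_
    rw [Ideal.map_sup, Ideal.map_quotient_self, bot_sup_eq, Ideal.map_pow, pow_two, smul_eq_mul]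
  obtain ⟨e', he', he⟩ := Submodule.exists_mem_and_smul_eq_self_of_fg_of_le_smul (I.map π) (I.map π) hfg hsq
  obtain ⟨e, heI, rfl⟩ := (Ideal.mem_map_iff_of_surjective π Ideal.Quotient.mk_surjective).1 he'
  refine ⟨G, (Finset.card_image_le.trans (le_of_eq Finset.card_univ)).trans hcard.le, hG, e, heI, fun y hy => ?_⟩
  refine Ideal.Quotient.eq_zero_iff_mem.1 ?_
  have h := he (π y) (Ideal.mem_map_of_mem π hy)
  rw [smul_eq_mul] at h
  show π ((1 - e) * y) = 0
  rw [map_mul, map_sub, map_one, sub_mul, one_mul, h, sub_self]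

/-- Intersection in a standard smooth algebra of relative dimension `n`, for abstract quotients. -/
theorem smooth_intersection_aux (n : ℕ) (A : Type u) [CommRing A] [Nontrivial A] [Algebra k A]
    [Algebra.IsStandardSmoothOfRelativeDimension n k A] (P Q R : PrimeSpectrum A)
    (hR : R.asIdeal ∈ (P.asIdeal ⊔ Q.asIdeal).minimalPrimes)
    (AP AQ : Type u) [CommRing AP] [IsDomain AP] [Algebra k AP] [Algebra.FiniteType k AP]
    [CommRing AQ] [IsDomain AQ] [Algebra k AQ] [Algebra.FiniteType k AQ]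
    (pP : A →ₐ[k] AP) (pQ : A →ₐ[k] AQ) (hpP : Function.Surjective pP) (hpQ : Function.Surjective pQ)
    (hkP : ∀ a, pP a = 0 ↔ a ∈ P.asIdeal) (hkQ : ∀ a, pQ a = 0 ↔ a ∈ Q.asIdeal)
    {r s : ℕ} (hr : ringKrullDim AP = r) (hs : ringKrullDim AQ = s) :
    ((r + s : ℕ) : ℕ∞) ≤ coheight R + n := by
  classical
  obtain ⟨G₀, hG₀n, hG₀, e, he, hspan⟩ := exists_diag_equations k n A
  let μ : A ⊗[k] A →ₐ[k] A := Algebra.TensorProduct.lmul' k
  let θ : A ⊗[k] A →ₐ[k] AP ⊗[k] AQ := Algebra.TensorProduct.map pP pQ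
  have hθ : Function.Surjective θ := TensorProduct.map_surjective hpP hpQ
  let C := A ⧸ (P.asIdeal ⊔ Q.asIdeal)
  let π₁ : AP →ₐ[k] C := AlgHom.liftOfSurjective pP hpP (Ideal.Quotient.mkₐ k _) (fun a ha =>
    Ideal.Quotient.eq_zero_iff_mem.2 (Ideal.mem_sup_left ((hkP a).1 ha)))
  let π₂ : AQ →ₐ[k] C := AlgHom.liftOfSurjective pQ hpQ (Ideal.Quotient.mkₐ k _) (fun a ha =>
    Ideal.Quotient.eq_zero_iff_mem.2 (Ideal.mem_sup_right ((hkQ a).1 ha)))
  let π : (AP ⊗[k] AQ) →ₐ[k] C := Algebra.TensorProduct.productMap π₁ π₂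
  have hπθ : ∀ z, π (θ z) = Ideal.Quotient.mk _ (μ z) := fun z => by
    induction z using TensorProduct.induction_on with
    | zero => simp
    | add z₁ z₂ h₁ h₂ => rw [map_add, map_add, h₁, h₂, map_add, map_add]
    | tmul a b =>
      simp only [π, θ, μ, Algebra.TensorProduct.map_tmul, Algebra.TensorProduct.productMap_apply_tmul,
        Algebra.TensorProduct.lmul'_apply_tmul, map_mul]
      congr 1
      · exact AlgHom.liftOfSurjective_apply ..
      · exact AlgHom.liftOfSurjective_apply ..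
  let f : (AP ⊗[k] AQ) →+* A ⧸ R.asIdeal := (Ideal.Quotient.factor hR.1.2).comp π.toRingHom
  have hfθ : ∀ z, f (θ z) = Ideal.Quotient.mk R.asIdeal (μ z) := fun z => by
    show Ideal.Quotient.factor hR.1.2 (π (θ z)) = _
    rw [hπθ]
    rfl
  have hf : Function.Surjective f := fun y => by
    obtain ⟨y, rfl⟩ := Ideal.Quotient.mk_surjective y
    exact ⟨θ (y ⊗ₜ 1), by rw [hfθ, Algebra.TensorProduct.lmul'_apply_tmul, mul_one]⟩
  let R' : PrimeSpectrum (AP ⊗[k] AQ) := ⟨RingHom.ker f, RingHom.ker_isPrime f⟩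
  have hI0 : ∀ y ∈ KaehlerDifferential.ideal k A, θ y ∈ R'.asIdeal := fun y hy => by
    show f (θ y) = 0
    rw [hfθ, show μ y = 0 from hy, map_zero]
  let G : Finset (AP ⊗[k] AQ) := G₀.image θ
  have hmin : R'.asIdeal ∈ (Ideal.span (G : Set (AP ⊗[k] AQ))).minimalPrimes := by
    refine ⟨⟨R'.2, Ideal.span_le.2 fun b hb => ?_⟩, fun S hS hSR b hb => ?_⟩
    · obtain ⟨y, hy, rfl⟩ := Finset.mem_image.1 hb
      exact hI0 y (hG₀ y hy)
    haveI := hS.1
    have hS0 : ∀ y ∈ KaehlerDifferential.ideal k A, θ y ∈ S := fun y hy => by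
      have h1 : θ ((1 - e) * y) ∈ S := by
        have h := Ideal.mem_map_of_mem θ.toRingHom (hspan y hy)
        rw [Ideal.map_span] at h
        refine hS.2 ?_
        simpa [G, Finset.coe_image] using h
      rw [map_mul] at h1
      refine (hS.1.mem_or_mem h1).resolve_left fun h => R'.2.ne_top ((Ideal.eq_top_iff_one _).2 ?_)
      have h2 := R'.asIdeal.add_mem (hSR h) (hI0 e he)
      rwa [map_sub, map_one, sub_add_cancel] at h2
    let ι : A →+* (AP ⊗[k] AQ) := θ.toRingHom.comp Algebra.TensorProduct.includeLeftRingHom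
    have hle : P.asIdeal ⊔ Q.asIdeal ≤ S.comap ι := by
      refine sup_le (fun a ha => ?_) (fun a ha => ?_)
      · show θ (a ⊗ₜ 1) ∈ S
        rw [Algebra.TensorProduct.map_tmul, (hkP a).2 ha, TensorProduct.zero_tmul]
        exact S.zero_mem
      · show θ (a ⊗ₜ 1) ∈ S
        have h := hS0 _ (KaehlerDifferential.one_smul_sub_smul_one_mem_ideal k a)
        rw [map_sub, Algebra.TensorProduct.map_tmul, (hkQ a).2 ha, TensorProduct.tmul_zero, zero_sub] at h
        exact neg_mem_iff.1 h
    have hcR : S.comap ι ≤ R.asIdeal := fun a ha => by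
      have h : f (θ (a ⊗ₜ 1)) = 0 := hSR ha
      rw [hfθ, Algebra.TensorProduct.lmul'_apply_tmul, mul_one] at h
      exact Ideal.Quotient.eq_zero_iff_mem.1 h
    obtain ⟨z, rfl⟩ := hθ b
    have h : f (θ z) = 0 := hb
    rw [hfθ] at h
    have hμ : θ (μ z ⊗ₜ 1) ∈ S := hR.2 ⟨hS.1.comap ι, hle⟩ hcR (Ideal.Quotient.eq_zero_iff_mem.1 h)
    have h2 := hS0 (z - μ z ⊗ₜ 1) (by simp [KaehlerDifferential.ideal, RingHom.mem_ker, μ])
    have h3 := S.add_mem h2 hμ
    rwa [map_sub, sub_add_cancel] at h3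
  have hnoeth : IsNoetherianRing (AP ⊗[k] AQ) :=
    haveI : Algebra.FiniteType k (AP ⊗[k] AQ) := Algebra.FiniteType.trans (S := AP) inferInstance inferInstance
    Algebra.FiniteType.isNoetherianRing k _
  have hco : coheight R' = coheight R := by
    refine WithBot.coe_inj.1 ?_
    rw [coheight_eq_ringKrullDim_quotient, coheight_eq_ringKrullDim_quotient]
    exact ringKrullDim_eq_of_ringEquiv (RingHom.quotientKerEquivOfSurjective hf)
  have := R'.2
  have hht : height R' ≤ n := by
    rw [← PrimeSpectrum.height_eq_orderHeight]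
    refine (Ideal.height_le_card_of_mem_minimalPrimes_span_finset hmin).trans ?_
    exact_mod_cast Finset.card_image_le.trans hG₀n
  have hft : Algebra.FiniteType k (AP ⊗[k] AQ) := Algebra.FiniteType.trans (S := AP) inferInstance inferInstance
  obtain ⟨q, hq, hqR⟩ := Ideal.exists_minimalPrimes_le (bot_le : (⊥ : Ideal (AP ⊗[k] AQ)) ≤ R'.asIdeal)
  have hmono := height_add_coheight_mono k (q := (⟨q, hq.1.1⟩ : PrimeSpectrum (AP ⊗[k] AQ))) (p := R') hqR
  rw [coheight_minimalPrime_tensor k AP AQ hr hs ⟨q, hq.1.1⟩ hq, hco] at hmono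
  rw [add_comm (coheight R)]
  exact (le_trans (le_add_self.trans hmono) (add_le_add_left hht _))

/-- Intersection in a standard smooth algebra: `dim R ≥ dim P + dim Q - n`. -/
theorem smooth_intersection (n : ℕ) (A : Type u) [CommRing A] [Algebra k A]
    [Algebra.IsStandardSmoothOfRelativeDimension n k A] (P Q R : PrimeSpectrum A)
    (hR : R.asIdeal ∈ (P.asIdeal ⊔ Q.asIdeal).minimalPrimes) :
    coheight P + coheight Q ≤ coheight R + n := by
  haveI : Nontrivial A := P.nontrivial
  haveI : Algebra.IsStandardSmooth k A := Algebra.IsStandardSmoothOfRelativeDimension.isStandardSmooth n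
  haveI : Algebra.FiniteType k A := inferInstance
  obtain ⟨r, hr, -⟩ := exists_dim_eq_trdeg k (A ⧸ P.asIdeal)
  obtain ⟨s, hs, -⟩ := exists_dim_eq_trdeg k (A ⧸ Q.asIdeal)
  have hP : coheight P = r := WithBot.coe_inj.1 ((coheight_eq_ringKrullDim_quotient P).trans hr)
  have hQ : coheight Q = s := WithBot.coe_inj.1 ((coheight_eq_ringKrullDim_quotient Q).trans hs)
  rw [hP, hQ, ← Nat.cast_add]
  exact smooth_intersection_aux k n A P Q R hR _ _ (Ideal.Quotient.mkₐ k P.asIdeal)
    (Ideal.Quotient.mkₐ k Q.asIdeal) Ideal.Quotient.mk_surjective Ideal.Quotient.mk_surjective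
    (fun _ => Ideal.Quotient.eq_zero_iff_mem) (fun _ => Ideal.Quotient.eq_zero_iff_mem) hr hs

end Alg

variable {k : Type u} [Field k] {X : Scheme.{u}}

/-- Components of intersections in a smooth variety have at least the expected dimension. -/
theorem deg_add_deg_le (f : X ⟶ Spec (CommRingCat.of k)) [Smooth f] [IrreducibleSpace X] (n : ℕ)
    (hn : topologicalKrullDim X = n) {ξ η z : X} (hξ : ξ ⤳ z) (hη : η ⤳ z)
    (hmin : ∀ w, ξ ⤳ w → η ⤳ w → w ⤳ z → w = z) : deg f ξ + deg f η ≤ deg f z + n := by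
  haveI := SmoothCrit.smoothOfRelativeDimension_dim f n hn
  obtain ⟨U₀, hU₀, U, hU, hzU, e, hs⟩ :=
    SmoothOfRelativeDimension.exists_isStandardSmoothOfRelativeDimension (f := f) (n := n) z
  obtain rfl : U₀ = ⊤ := by
    refine top_unique fun w _ => ?_
    rw [Subsingleton.elim (α := PrimeSpectrum k) w (f z)]
    exact e hzU
  let φ : k →+* Γ(X, U) := (f.appLE ⊤ U e).hom.comp (Scheme.ΓSpecIso (CommRingCat.of k)).inv.hom
  letI : Algebra k Γ(X, U) := φ.toAlgebra
  haveI : Algebra.IsStandardSmoothOfRelativeDimension n k Γ(X, U) := by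
    have h : φ.IsStandardSmoothOfRelativeDimension n :=
      RingHom.isStandardSmoothOfRelativeDimension_respectsIso.2 (f.appLE ⊤ U e).hom
        (Scheme.ΓSpecIso (CommRingCat.of k)).symm.commRingCatIsoToRingEquiv hs
    exact h.toAlgebra
  obtain ⟨p, rfl⟩ := exists_fromSpec_eq hU (hξ.mem_open U.2 hzU)
  obtain ⟨q, rfl⟩ := exists_fromSpec_eq hU (hη.mem_open U.2 hzU)
  obtain ⟨m, rfl⟩ := exists_fromSpec_eq hU hzU
  have hm : m.asIdeal ∈ (p.asIdeal ⊔ q.asIdeal).minimalPrimes := by
    refine ⟨⟨m.isPrime, sup_le ((fromSpec_specializes_iff hU p m).1 hξ) ((fromSpec_specializes_iff hU q m).1 hη)⟩,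
      fun J hJ hJm => ?_⟩
    let j : PrimeSpectrum Γ(X, U) := ⟨J, hJ.1⟩
    have h := hmin (hU.fromSpec j) ((fromSpec_specializes_iff hU p j).2 (le_sup_left.trans hJ.2))
      ((fromSpec_specializes_iff hU q j).2 (le_sup_right.trans hJ.2)) ((fromSpec_specializes_iff hU j m).2 hJm)
    exact (congrArg PrimeSpectrum.asIdeal (hU.fromSpec.isOpenEmbedding.injective h)).ge
  have h := smooth_intersection k n Γ(X, U) p q m hm
  rw [deg_eq_coheight f hU, deg_eq_coheight f hU, deg_eq_coheight f hU] at h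
  exact_mod_cast h

/-- Components of intersections of irreducible closed sets in a smooth variety. -/
theorem add_le_dim_component (f : X ⟶ Spec (CommRingCat.of k)) [Smooth f] [IrreducibleSpace X]
    (n r s : ℕ) (hn : topologicalKrullDim X = n) (V W : Set X) (hVc : IsClosed V)
    (hVi : IsIrreducible V) (hWc : IsClosed W) (hWi : IsIrreducible W)
    (hr : topologicalKrullDim ↥V = r) (hs : topologicalKrullDim ↥W = s) (Z : Set ↥(V ∩ W))
    (hZ : Z ∈ irreducibleComponents ↥(V ∩ W)) :
    ((r + s : ℕ) : WithBot ℕ∞) ≤ topologicalKrullDim ↥Z + n := by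
  obtain ⟨ξ, hξ⟩ := QuasiSober.sober hVi hVc
  obtain ⟨η, hη⟩ := QuasiSober.sober hWi hWc
  have hZ' : IsIrreducible (Subtype.val '' Z) := hZ.1.image _ continuous_subtype_val.continuousOn
  have hZc : IsClosed (Subtype.val '' Z) :=
    (hVc.inter hWc).isClosedEmbedding_subtypeVal.isClosedMap _ (isClosed_of_mem_irreducibleComponents _ hZ)
  obtain ⟨z, hz⟩ := QuasiSober.sober hZ' hZc
  have hzVW : z ∈ V ∩ W := by
    obtain ⟨w, -, hw⟩ := hz.mem
    exact hw ▸ w.2
  have hmin : ∀ w, ξ ⤳ w → η ⤳ w → w ⤳ z → w = z := fun w h1 h2 h3 => by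
    have hw : w ∈ V ∩ W := ⟨hξ.specializes_iff_mem.1 h1, hη.specializes_iff_mem.1 h2⟩
    have hcl : closure ({(⟨w, hw⟩ : ↥(V ∩ W))} : Set ↥(V ∩ W)) = Z := by
      refine (hZ.eq_of_subset isIrreducible_singleton.closure fun v hv => ?_).symm
      rw [← specializes_iff_mem_closure, ← Topology.IsInducing.subtypeVal.specializes_iff]
      exact h3.trans (hz.specializes_iff_mem.2 ⟨v, hv, rfl⟩)
    refine (h3.antisymm (hz.specializes_iff_mem.2 ?_)).eq
    exact ⟨⟨w, hw⟩, hcl ▸ subset_closure rfl, rfl⟩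
  have h := deg_add_deg_le f n hn (hξ.specializes_iff_mem.2 hzVW.1) (hη.specializes_iff_mem.2 hzVW.2) hmin
  have e1 := topologicalKrullDim_closure_singleton f ξ
  have e2 := topologicalKrullDim_closure_singleton f η
  have e3 := topologicalKrullDim_closure_singleton f z
  rw [hξ.def, hr] at e1
  rw [hη.def, hs] at e2
  rw [hz.def, ← (Topology.IsEmbedding.subtypeVal.homeomorphImage Z).isHomeomorph.topologicalKrullDim_eq] at e3
  obtain rfl : r = deg f ξ := by exact_mod_cast e1
  obtain rfl : s = deg f η := by exact_mod_cast e2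
  rw [e3]
  exact_mod_cast h

end Groth.Agent.VarDim
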